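import Cfsg.Agent.HSRecog.Cert5.RuleData

/-! Generated by tools/dcoset/emit.py: step words. -/

set_option Elab.async false

namespace Cfsg.Agent.HSRecog.Cert5

open Cfsg.Agent.DCoset Cfsg.Agent.CosetCert

def argWS_1 : Store := (.node 9 (.node 4 (.node 2 (.node 1 (.leaf 0x1) (.leaf 0x20001)) (.node 3 (.leaf 0x40001) (.leaf 0x60001))) (.node 6 (.node 5 (.leaf 0x20001) (.leaf 0x0)) (.node 7 (.leaf 0x20001) (.node 8 (.leaf 0x0) (.leaf 0x1))))) (.node 14 (.node 11 (.node 10 (.leaf 0x0) (.leaf 0x40001)) (.node 12 (.leaf 0x0) (.node 13 (.leaf 0x20001) (.leaf 0x0)))) (.node 16 (.node 15 (.leaf 0x1) (.leaf 0x0)) (.node 17 (.leaf 0x1) (.node 18 (.leaf 0x0) (.leaf 0x60002))))))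

def argWS_2 : Store := (.node 29 (.node 24 (.node 21 (.node 20 (.leaf 0x0) (.leaf 0x20001)) (.node 22 (.leaf 0x0) (.node 23 (.leaf 0x2060002) (.leaf 0x0)))) (.node 26 (.node 25 (.leaf 0x1) (.leaf 0x0)) (.node 27 (.leaf 0x40002) (.node 28 (.leaf 0x0) (.leaf 0x40002))))) (.node 34 (.node 31 (.node 30 (.leaf 0x0) (.leaf 0x4020003)) (.node 32 (.leaf 0x0) (.node 33 (.leaf 0x60001) (.leaf 0x0)))) (.node 36 (.node 35 (.leaf 0x10604020004) (.leaf 0x0)) (.node 37 (.leaf 0x20001) (.node 38 (.leaf 0x0) (.leaf 0x2040002))))))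

def argWS_3 : Store := (.node 19 argWS_1 argWS_2)

def argWS_4 : Store := (.node 49 (.node 44 (.node 41 (.node 40 (.leaf 0x0) (.leaf 0x40001)) (.node 42 (.leaf 0x0) (.node 43 (.leaf 0x4020002) (.leaf 0x0)))) (.node 46 (.node 45 (.leaf 0x4020002) (.leaf 0x0)) (.node 47 (.leaf 0x2040002) (.node 48 (.leaf 0x0) (.leaf 0x60002))))) (.node 54 (.node 51 (.node 50 (.leaf 0x0) (.leaf 0x6020003)) (.node 52 (.leaf 0x0) (.node 53 (.leaf 0x60001) (.leaf 0x0)))) (.node 56 (.node 55 (.leaf 0x10001) (.leaf 0x0)) (.node 57 (.leaf 0x10001) (.node 58 (.leaf 0x0) (.leaf 0x1040002))))))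

def argWS_5 : Store := (.node 69 (.node 64 (.node 61 (.node 60 (.leaf 0x0) (.leaf 0x60002)) (.node 62 (.leaf 0x0) (.node 63 (.leaf 0x6020003) (.leaf 0x0)))) (.node 66 (.node 65 (.leaf 0x10604020004) (.leaf 0x0)) (.node 67 (.leaf 0x1050306030005) (.node 68 (.leaf 0x0) (.leaf 0x2040002))))) (.node 74 (.node 71 (.node 70 (.leaf 0x0) (.leaf 0x303040003)) (.node 72 (.leaf 0x0) (.node 73 (.leaf 0x6020003) (.leaf 0x0)))) (.node 76 (.node 75 (.leaf 0x200020006020402060303000b) (.leaf 0x0)) (.node 77 (.leaf 0x303040003) (.node 78 (.leaf 0x0) (.leaf 0x303010306030006))))))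

def argWS_6 : Store := (.node 59 argWS_4 argWS_5)

def argWS_7 : Store := (.node 39 argWS_3 argWS_6)

def argWS_8 : Store := (.node 89 (.node 84 (.node 81 (.node 80 (.leaf 0x0) (.leaf 0x303010306030006)) (.node 82 (.leaf 0x0) (.node 83 (.leaf 0x60000020002060202060304000c) (.leaf 0x0)))) (.node 86 (.node 85 (.leaf 0x200020006020402060303000b) (.leaf 0x0)) (.node 87 (.leaf 0x40300000306040007) (.node 88 (.leaf 0x0) (.leaf 0x4020002))))) (.node 94 (.node 91 (.node 90 (.leaf 0x0) (.leaf 0x206050003)) (.node 92 (.leaf 0x0) (.node 93 (.leaf 0x1050306030005) (.leaf 0x0)))) (.node 96 (.node 95 (.leaf 0x1020103050306030008) (.leaf 0x0)) (.node 97 (.leaf 0x6020003) (.node 98 (.leaf 0x0) (.leaf 0x4000200030604020008))))))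

def argWS_9 : Store := (.node 109 (.node 104 (.node 101 (.node 100 (.leaf 0x0) (.leaf 0x60001)) (.node 102 (.leaf 0x0) (.node 103 (.leaf 0x6040003) (.leaf 0x0)))) (.node 106 (.node 105 (.leaf 0x206050003) (.leaf 0x0)) (.node 107 (.leaf 0x10300030503060007) (.node 108 (.leaf 0x0) (.leaf 0x6040003))))) (.node 114 (.node 111 (.node 110 (.leaf 0x0) (.leaf 0x6050004)) (.node 112 (.leaf 0x0) (.node 113 (.leaf 0x2060002) (.leaf 0x0)))) (.node 116 (.node 115 (.leaf 0x50000020002060202060304000c) (.leaf 0x0)) (.node 117 (.leaf 0x1040002) (.node 118 (.leaf 0x0) (.leaf 0x3010301060005))))))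

def argWS_10 : Store := (.node 99 argWS_8 argWS_9)

def argWS_11 : Store := (.node 129 (.node 124 (.node 121 (.node 120 (.leaf 0x0) (.leaf 0x10300030503060007)) (.node 122 (.leaf 0x0) (.node 123 (.leaf 0x400030002060402060303000b) (.leaf 0x0)))) (.node 126 (.node 125 (.leaf 0x40300000306040007) (.leaf 0x0)) (.node 127 (.leaf 0x403000006020605030009) (.node 128 (.leaf 0x0) (.leaf 0x4000200030604020008))))) (.node 134 (.node 131 (.node 130 (.leaf 0x0) (.leaf 0x3060002000605030008)) (.node 132 (.leaf 0x0) (.node 133 (.leaf 0x0) (.leaf 0x6000301020603030008)))) (.node 136 (.node 135 (.leaf 0x6000301020603030008) (.leaf 0x0)) (.node 137 (.leaf 0x0) (.node 138 (.leaf 0x402040003) (.leaf 0x402040003))))))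

def argWS_12 : Store := (.node 149 (.node 144 (.node 141 (.node 140 (.leaf 0x0) (.leaf 0x20001)) (.node 142 (.leaf 0x0) (.node 143 (.leaf 0x2000002) (.leaf 0x0)))) (.node 146 (.node 145 (.leaf 0x20001) (.leaf 0x0)) (.node 147 (.leaf 0x2020002) (.node 148 (.leaf 0x0) (.leaf 0x202040003))))) (.node 154 (.node 151 (.node 150 (.leaf 0x0) (.leaf 0x200020003)) (.node 152 (.leaf 0x0) (.node 153 (.leaf 0x200020003) (.leaf 0x0)))) (.node 156 (.node 155 (.leaf 0x2000002) (.leaf 0x0)) (.node 157 (.leaf 0x200040003) (.node 158 (.leaf 0x0) (.leaf 0x20004020004))))))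

def argWS_13 : Store := (.node 139 argWS_11 argWS_12)

def argWS_14 : Store := (.node 119 argWS_10 argWS_13)

def argWS_15 : Store := (.node 79 argWS_7 argWS_14)

def argWS_16 : Store := (.node 169 (.node 164 (.node 161 (.node 160 (.leaf 0x0) (.leaf 0x2000402040005)) (.node 162 (.leaf 0x0) (.node 163 (.leaf 0x20002020004) (.leaf 0x0)))) (.node 166 (.node 165 (.leaf 0x20002000004) (.leaf 0x0)) (.node 167 (.leaf 0x3040002) (.node 168 (.leaf 0x0) (.leaf 0x0))))) (.node 174 (.node 171 (.node 170 (.leaf 0x0) (.leaf 0x300040003)) (.node 172 (.leaf 0x0) (.node 173 (.leaf 0x0) (.leaf 0x3010303050005)))) (.node 176 (.node 175 (.leaf 0x300050003) (.leaf 0x0)) (.node 177 (.leaf 0xb09080d0004) (.node 178 (.leaf 0x0) (.leaf 0x0))))))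

def argWS_17 : Store := (.node 189 (.node 184 (.node 181 (.node 180 (.leaf 0x2000200020005) (.leaf 0x0)) (.node 182 (.leaf 0x0) (.node 183 (.leaf 0x4030104030005) (.leaf 0x200020002060006)))) (.node 186 (.node 185 (.leaf 0x0) (.leaf 0xb0f0c0a0004)) (.node 187 (.leaf 0x0) (.node 188 (.leaf 0x0) (.leaf 0x0))))) (.node 194 (.node 191 (.node 190 (.leaf 0x0) (.leaf 0x104020603030006)) (.node 192 (.leaf 0x0) (.node 193 (.leaf 0x0) (.leaf 0x403000002060305030603000b)))) (.node 196 (.node 195 (.leaf 0x104020603030006) (.leaf 0x0)) (.node 197 (.leaf 0x103000002060202060305000b) (.node 198 (.leaf 0x0) (.leaf 0x104020603030006))))))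

def argWS_18 : Store := (.node 179 argWS_16 argWS_17)

def argWS_19 : Store := (.node 209 (.node 204 (.node 201 (.node 200 (.leaf 0x0) (.leaf 0x2020603050007)) (.node 202 (.leaf 0x0) (.node 203 (.leaf 0x403000002060305030603000b) (.leaf 0x0)))) (.node 206 (.node 205 (.leaf 0x2020603040007) (.leaf 0x0)) (.node 207 (.leaf 0x403000002060305030603000b) (.node 208 (.leaf 0x0) (.leaf 0x103000002060202060305000b))))) (.node 214 (.node 211 (.node 210 (.leaf 0x0) (.leaf 0x104020603030006)) (.node 212 (.leaf 0x0) (.node 213 (.leaf 0x6030604020006) (.leaf 0x0)))) (.node 216 (.node 215 (.leaf 0x0) (.leaf 0x50102000003060305030603000c)) (.node 217 (.leaf 0x0) (.node 218 (.leaf 0xa0b0002) (.leaf 0x30001))))))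

def argWS_20 : Store := (.node 229 (.node 224 (.node 221 (.node 220 (.leaf 0x0) (.leaf 0x0)) (.node 222 (.leaf 0x3000002060005) (.node 223 (.leaf 0x0) (.leaf 0xc090f0a0e0005)))) (.node 226 (.node 225 (.leaf 0x30001) (.leaf 0x0)) (.node 227 (.leaf 0x0) (.node 228 (.leaf 0x50002) (.leaf 0x0))))) (.node 234 (.node 231 (.node 230 (.leaf 0x0) (.leaf 0x403000002060006)) (.node 232 (.leaf 0x20603030004) (.node 233 (.leaf 0x0) (.leaf 0xc090c0a0004)))) (.node 236 (.node 235 (.leaf 0x30001) (.leaf 0x0)) (.node 237 (.leaf 0x0) (.node 238 (.leaf 0x0) (.leaf 0x0))))))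

def argWS_21 : Store := (.node 219 argWS_19 argWS_20)

def argWS_22 : Store := (.node 199 argWS_18 argWS_21)

def argWS_23 : Store := (.node 249 (.node 244 (.node 241 (.node 240 (.leaf 0x40200000206030007) (.leaf 0x0)) (.node 242 (.leaf 0x0) (.node 243 (.leaf 0x30604020006) (.leaf 0x0)))) (.node 246 (.node 245 (.leaf 0x0) (.leaf 0x4020000030603060402000a)) (.node 247 (.leaf 0xb080d0a0004) (.node 248 (.leaf 0x0) (.leaf 0x1030002))))) (.node 254 (.node 251 (.node 250 (.leaf 0x3060002000402050008) (.leaf 0x0)) (.node 252 (.leaf 0x7070f0c0d0005) (.node 253 (.leaf 0x0) (.leaf 0xb090f0e0a0005)))) (.node 256 (.node 255 (.leaf 0xfd0000fc) (.leaf 0x0)) (.node 257 (.leaf 0x3000002020605030008) (.node 258 (.leaf 0x3030000030602040008) (.leaf 0x0))))))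

def argWS_24 : Store := (.node 269 (.node 264 (.node 261 (.node 260 (.leaf 0x0) (.leaf 0x0)) (.node 262 (.leaf 0xc0001) (.node 263 (.leaf 0x0) (.leaf 0x40200000206030007)))) (.node 266 (.node 265 (.leaf 0x0) (.leaf 0xa0b0a0003)) (.node 267 (.leaf 0x20001) (.node 268 (.leaf 0x0) (.leaf 0x0))))) (.node 274 (.node 271 (.node 270 (.leaf 0x0) (.leaf 0x1040002)) (.node 272 (.leaf 0x10200030503060007) (.node 273 (.leaf 0x0) (.leaf 0xb090f0a0004)))) (.node 276 (.node 275 (.leaf 0x0) (.leaf 0x0)) (.node 277 (.leaf 0x0) (.node 278 (.leaf 0x30001) (.leaf 0x0))))))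

def argWS_25 : Store := (.node 259 argWS_23 argWS_24)

def argWS_26 : Store := (.node 289 (.node 284 (.node 281 (.node 280 (.leaf 0x3000004020603030008) (.leaf 0x20001)) (.node 282 (.leaf 0x0) (.node 283 (.leaf 0x0) (.leaf 0x0)))) (.node 286 (.node 285 (.leaf 0x7070d0a0004) (.leaf 0x30602020603040009)) (.node 287 (.leaf 0x0) (.node 288 (.leaf 0xb070d0003) (.leaf 0x0))))) (.node 294 (.node 291 (.node 290 (.leaf 0x602000306040006) (.leaf 0x401030102060402060303000b)) (.node 292 (.leaf 0x0) (.node 293 (.leaf 0x80f0e0a0004) (.leaf 0x0)))) (.node 296 (.node 295 (.leaf 0x125) (.leaf 0x0)) (.node 297 (.leaf 0x202000002060202020603000b) (.node 298 (.leaf 0x500000201030006) (.leaf 0x0))))))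

def argWS_27 : Store := (.node 309 (.node 304 (.node 301 (.node 300 (.leaf 0x0) (.leaf 0x0)) (.node 302 (.leaf 0x80f0c0d0004) (.node 303 (.leaf 0x30602020603040009) (.leaf 0x0)))) (.node 306 (.node 305 (.leaf 0x0) (.leaf 0x0)) (.node 307 (.leaf 0x40001) (.node 308 (.leaf 0x0) (.leaf 0xa0b090f0c0d0006))))) (.node 314 (.node 311 (.node 310 (.leaf 0x301030003) (.leaf 0x0)) (.node 312 (.leaf 0x0) (.node 313 (.leaf 0x0) (.leaf 0x0)))) (.node 316 (.node 315 (.leaf 0x6020603030007) (.leaf 0x9080d0a0004)) (.node 317 (.leaf 0xb090a0e0004) (.node 318 (.leaf 0x0) (.leaf 0x202000002060202020603000b))))))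

def argWS_28 : Store := (.node 299 argWS_26 argWS_27)

def argWS_29 : Store := (.node 279 argWS_25 argWS_28)

def argWS_30 : Store := (.node 239 argWS_22 argWS_29)

def argWS_31 : Store := (.node 159 argWS_15 argWS_30)

def argWS_32 : Store := (.node 329 (.node 324 (.node 321 (.node 320 (.leaf 0x10206030004) (.leaf 0x0)) (.node 322 (.leaf 0xb080f0e0a0005) (.node 323 (.leaf 0x0) (.leaf 0x14200013c)))) (.node 326 (.node 325 (.leaf 0x0) (.leaf 0x3000002020605030008)) (.node 327 (.leaf 0x201060402060303000a) (.node 328 (.leaf 0x0) (.leaf 0x0))))) (.node 334 (.node 331 (.node 330 (.leaf 0x0) (.leaf 0xf0d0002)) (.node 332 (.leaf 0x0) (.node 333 (.leaf 0x406030503060008) (.leaf 0x200000206020402060303000b)))) (.node 336 (.node 335 (.leaf 0x0) (.leaf 0xa0b090f0e0a0006)) (.node 337 (.leaf 0x0) (.node 338 (.leaf 0x0) (.leaf 0x4020603030007))))))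

def argWS_33 : Store := (.node 349 (.node 344 (.node 341 (.node 340 (.leaf 0x1030102020202060304000a) (.leaf 0x0)) (.node 342 (.leaf 0xc0a0002) (.node 343 (.leaf 0x0) (.leaf 0x156)))) (.node 346 (.node 345 (.leaf 0x0) (.leaf 0x602020603050008)) (.node 347 (.leaf 0x30103010602020603060402000c) (.node 348 (.leaf 0x0) (.leaf 0x0))))) (.node 354 (.node 351 (.node 350 (.leaf 0x0) (.leaf 0xa0e0002)) (.node 352 (.leaf 0x0) (.node 353 (.leaf 0x0) (.leaf 0x406030503060008)))) (.node 356 (.node 355 (.leaf 0x401020002060202020603000b) (.leaf 0x0)) (.node 357 (.leaf 0x0) (.node 358 (.leaf 0x0) (.leaf 0xb09080e0004))))))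

def argWS_34 : Store := (.node 339 argWS_32 argWS_33)

def argWS_35 : Store := (.node 369 (.node 364 (.node 361 (.node 360 (.leaf 0x0) (.leaf 0xb090f0e0004)) (.node 362 (.leaf 0x30001) (.node 363 (.leaf 0x0) (.leaf 0x0)))) (.node 366 (.node 365 (.leaf 0x4020000030603060402000a) (.leaf 0x0)) (.node 367 (.leaf 0xb0f0002) (.node 368 (.leaf 0x30001) (.leaf 0x0))))) (.node 374 (.node 371 (.node 370 (.leaf 0x0) (.leaf 0x0)) (.node 372 (.leaf 0x0) (.node 373 (.leaf 0x604020603030006) (.leaf 0x0)))) (.node 376 (.node 375 (.leaf 0x0) (.leaf 0x6020605030005)) (.node 377 (.leaf 0xf0e0c0003) (.node 378 (.leaf 0x0) (.leaf 0x50102000003060202060304000c))))))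

def argWS_36 : Store := (.node 389 (.node 384 (.node 381 (.node 380 (.leaf 0x6000002000602060503000a) (.leaf 0x0)) (.node 382 (.leaf 0xa0b090c0004) (.node 383 (.leaf 0x0) (.leaf 0x0)))) (.node 386 (.node 385 (.leaf 0x4020000030603060402000a) (.leaf 0x200000603040006)) (.node 387 (.leaf 0x0) (.node 388 (.leaf 0x7070f0e0004) (.leaf 0x0))))) (.node 394 (.node 391 (.node 390 (.leaf 0x18400017e) (.leaf 0x0)) (.node 392 (.leaf 0x60306030503060007) (.node 393 (.leaf 0x2000006050005) (.leaf 0x0)))) (.node 396 (.node 395 (.leaf 0x0) (.leaf 0x0)) (.node 397 (.leaf 0x90f0c0a0004) (.node 398 (.leaf 0x0) (.leaf 0x604020603030006))))))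

def argWS_37 : Store := (.node 379 argWS_35 argWS_36)

def argWS_38 : Store := (.node 359 argWS_34 argWS_37)

def argWS_39 : Store := (.node 409 (.node 404 (.node 401 (.node 400 (.leaf 0x0) (.leaf 0x2020603050005)) (.node 402 (.leaf 0x0) (.node 403 (.leaf 0xa0001) (.leaf 0x30001)))) (.node 406 (.node 405 (.leaf 0x0) (.leaf 0x0)) (.node 407 (.leaf 0xb090f0e0a0005) (.node 408 (.leaf 0x0) (.leaf 0x0))))) (.node 414 (.node 411 (.node 410 (.leaf 0x20001) (.leaf 0x3030000030602040008)) (.node 412 (.leaf 0x0) (.node 413 (.leaf 0x0) (.leaf 0x303000004020603040009)))) (.node 416 (.node 415 (.leaf 0x30001) (.leaf 0x0)) (.node 417 (.leaf 0x0) (.node 418 (.leaf 0x0) (.leaf 0xb0e0c0003))))))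

def argWS_40 : Store := (.node 429 (.node 424 (.node 421 (.node 420 (.leaf 0x3030000030602040008) (.leaf 0x0)) (.node 422 (.leaf 0x202000002060202060304000b) (.node 423 (.leaf 0x0) (.leaf 0x0)))) (.node 426 (.node 425 (.leaf 0x200000602020206030009) (.leaf 0x4030000060202060305000a)) (.node 427 (.leaf 0x0) (.node 428 (.leaf 0x7070f0003) (.leaf 0x0))))) (.node 434 (.node 431 (.node 430 (.leaf 0x0) (.leaf 0x30604020006)) (.node 432 (.leaf 0x3030000030005) (.node 433 (.leaf 0x0) (.leaf 0xa0b090f0a0e0006)))) (.node 436 (.node 435 (.leaf 0x0) (.leaf 0x0)) (.node 437 (.leaf 0x2020000020603060402000a) (.node 438 (.leaf 0x20000020602040007) (.leaf 0x0))))))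

def argWS_41 : Store := (.node 419 argWS_39 argWS_40)

def argWS_42 : Store := (.node 449 (.node 444 (.node 441 (.node 440 (.leaf 0xb090a0e0004) (.leaf 0x0)) (.node 442 (.leaf 0x1b80001b2) (.node 443 (.leaf 0x0) (.leaf 0x30604020006)))) (.node 446 (.node 445 (.leaf 0x303000003060006) (.leaf 0x0)) (.node 447 (.leaf 0xa0b090f0e0c0006) (.node 448 (.leaf 0x0) (.leaf 0x0))))) (.node 454 (.node 451 (.node 450 (.leaf 0x0) (.leaf 0x3030000030602050008)) (.node 452 (.leaf 0x3030000030602040008) (.node 453 (.leaf 0x0) (.leaf 0x303000004020603040009)))) (.node 456 (.node 455 (.leaf 0x0) (.leaf 0xb0d0a0003)) (.node 457 (.leaf 0x0) (.node 458 (.leaf 0x0) (.leaf 0x0))))))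

def argWS_43 : Store := (.node 469 (.node 464 (.node 461 (.node 460 (.leaf 0x0) (.leaf 0x300000602020202060305000b)) (.node 462 (.leaf 0xc090002) (.node 463 (.leaf 0x0) (.leaf 0x0)))) (.node 466 (.node 465 (.leaf 0x30602020603040009) (.leaf 0x0)) (.node 467 (.leaf 0x3000006030603050306000a) (.node 468 (.leaf 0x0) (.leaf 0x7070f0d0a0005))))) (.node 474 (.node 471 (.node 470 (.leaf 0x0) (.leaf 0x0)) (.node 472 (.leaf 0x30604020006) (.node 473 (.leaf 0x0) (.leaf 0x4020000060202060305000a)))) (.node 476 (.node 475 (.leaf 0x0) (.leaf 0x0)) (.node 477 (.leaf 0x306030005) (.node 478 (.leaf 0x2010002) (.leaf 0x0))))))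

def argWS_44 : Store := (.node 459 argWS_42 argWS_43)

def argWS_45 : Store := (.node 439 argWS_41 argWS_44)

def argWS_46 : Store := (.node 399 argWS_38 argWS_45)

def argWS_47 : Store := (.node 489 (.node 484 (.node 481 (.node 480 (.leaf 0x0) (.leaf 0x0)) (.node 482 (.leaf 0xb09070f0004) (.node 483 (.leaf 0x0) (.leaf 0x4020000060202060305000a)))) (.node 486 (.node 485 (.leaf 0x0) (.leaf 0x4020000030603060402000a)) (.node 487 (.leaf 0x0) (.node 488 (.leaf 0x402020206030008) (.leaf 0x0))))) (.node 494 (.node 491 (.node 490 (.leaf 0x3000006020202060503000a) (.leaf 0x0)) (.node 492 (.leaf 0x0) (.node 493 (.leaf 0x303040003) (.leaf 0x403030603050306000a)))) (.node 496 (.node 495 (.leaf 0x0) (.leaf 0xa0001)) (.node 497 (.leaf 0x3010002) (.node 498 (.leaf 0x0) (.leaf 0x0))))))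

def argWS_48 : Store := (.node 509 (.node 504 (.node 501 (.node 500 (.leaf 0x402040003) (.leaf 0x0)) (.node 502 (.leaf 0x20200000306020202060304000c) (.node 503 (.leaf 0x0) (.leaf 0x0)))) (.node 506 (.node 505 (.leaf 0x306030005) (.leaf 0x300000306040006)) (.node 507 (.leaf 0x0) (.node 508 (.leaf 0xa0b0f0e0004) (.leaf 0x3010002))))) (.node 514 (.node 511 (.node 510 (.leaf 0x0) (.leaf 0x0)) (.node 512 (.leaf 0x30602020603040009) (.node 513 (.leaf 0x0) (.leaf 0x402050003)))) (.node 516 (.node 515 (.leaf 0x0) (.leaf 0x0)) (.node 517 (.leaf 0x403000006020402060303000b) (.node 518 (.leaf 0x201030003) (.leaf 0x0))))))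

def argWS_49 : Store := (.node 499 argWS_47 argWS_48)

def argWS_50 : Store := (.node 529 (.node 524 (.node 521 (.node 520 (.leaf 0x80f0a0003) (.leaf 0x0)) (.node 522 (.leaf 0x0) (.node 523 (.leaf 0x0) (.leaf 0x0)))) (.node 526 (.node 525 (.leaf 0x1030002020603030008) (.leaf 0x30602020603040009)) (.node 527 (.leaf 0x0) (.node 528 (.leaf 0x402050003) (.leaf 0x0))))) (.node 534 (.node 531 (.node 530 (.leaf 0x0) (.leaf 0x20604020603030009)) (.node 532 (.leaf 0x30001) (.node 533 (.leaf 0x0) (.leaf 0x0)))) (.node 536 (.node 535 (.leaf 0x0) (.leaf 0xc090f0e0a0005)) (.node 537 (.leaf 0x0) (.node 538 (.leaf 0x0) (.leaf 0x0))))))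

def argWS_51 : Store := (.node 549 (.node 544 (.node 541 (.node 540 (.leaf 0x0) (.leaf 0x2000003030604020008)) (.node 542 (.leaf 0x40300000206030603050306000c) (.node 543 (.leaf 0x0) (.leaf 0x0)))) (.node 546 (.node 545 (.leaf 0x0) (.leaf 0x10402050004)) (.node 547 (.leaf 0x30604020006) (.node 548 (.leaf 0x0) (.leaf 0x4020000060202060305000a))))) (.node 554 (.node 551 (.node 550 (.leaf 0x0) (.leaf 0x402040003)) (.node 552 (.leaf 0x0) (.node 553 (.leaf 0x0) (.leaf 0x403000003060402060303000b)))) (.node 556 (.node 555 (.leaf 0x301030603030006) (.leaf 0x0)) (.node 557 (.leaf 0x0) (.node 558 (.leaf 0x0) (.leaf 0xa0b0f0e0a0005))))))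

def argWS_52 : Store := (.node 539 argWS_50 argWS_51)

def argWS_53 : Store := (.node 519 argWS_49 argWS_52)

def argWS_54 : Store := (.node 569 (.node 564 (.node 561 (.node 560 (.leaf 0x0) (.leaf 0x0)) (.node 562 (.leaf 0x3000206020202060304000a) (.node 563 (.leaf 0x30602020603040009) (.leaf 0x0)))) (.node 566 (.node 565 (.leaf 0x3010602020603050009) (.leaf 0x0)) (.node 567 (.leaf 0x0) (.node 568 (.leaf 0x306000200050306030009) (.leaf 0x3010002))))) (.node 574 (.node 571 (.node 570 (.leaf 0x0) (.leaf 0x0)) (.node 572 (.leaf 0x0) (.node 573 (.leaf 0xb09080f0e0a0006) (.leaf 0x30602020603040009)))) (.node 576 (.node 575 (.leaf 0x0) (.leaf 0x0)) (.node 577 (.leaf 0x0) (.node 578 (.leaf 0x0) (.leaf 0x406030503060008))))))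

def argWS_55 : Store := (.node 589 (.node 584 (.node 581 (.node 580 (.leaf 0x102000002060202020603000b) (.leaf 0x0)) (.node 582 (.leaf 0xb09070003) (.node 583 (.leaf 0x0) (.leaf 0x0)))) (.node 586 (.node 585 (.leaf 0x0) (.leaf 0x0)) (.node 587 (.leaf 0x0) (.node 588 (.leaf 0x3010206020005) (.leaf 0x301020003))))) (.node 594 (.node 591 (.node 590 (.leaf 0x4020006020005) (.leaf 0x0)) (.node 592 (.leaf 0x401020002060202020603000b) (.node 593 (.leaf 0x0) (.leaf 0x0)))) (.node 596 (.node 595 (.leaf 0x0) (.leaf 0x5000002000605030603000a)) (.node 597 (.leaf 0x0) (.node 598 (.leaf 0x103000006020202060305000b) (.leaf 0x0))))))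

def argWS_56 : Store := (.node 579 argWS_54 argWS_55)

def argWS_57 : Store := (.node 609 (.node 604 (.node 601 (.node 600 (.leaf 0x50102000004020202060305000c) (.leaf 0x0)) (.node 602 (.leaf 0x2000006020202060303000b) (.node 603 (.leaf 0x0) (.leaf 0x4000200020602060503000a)))) (.node 606 (.node 605 (.leaf 0x0) (.leaf 0x0)) (.node 607 (.leaf 0x600030104030402060303000b) (.node 608 (.leaf 0x2010200020402060303000a) (.leaf 0x0))))) (.node 614 (.node 611 (.node 610 (.leaf 0x0) (.leaf 0x0)) (.node 612 (.leaf 0xa0b090d0004) (.node 613 (.leaf 0x0) (.leaf 0x0)))) (.node 616 (.node 615 (.leaf 0x0) (.leaf 0x0)) (.node 617 (.leaf 0x10300030602050007) (.node 618 (.leaf 0x30001) (.leaf 0x3010206030006))))))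

def argWS_58 : Store := (.node 629 (.node 624 (.node 621 (.node 620 (.leaf 0x0) (.leaf 0x0)) (.node 622 (.leaf 0x0) (.node 623 (.leaf 0x0) (.leaf 0x20001)))) (.node 626 (.node 625 (.leaf 0x0) (.leaf 0x2000002)) (.node 627 (.leaf 0x0) (.node 628 (.leaf 0x200020003) (.leaf 0x0))))) (.node 634 (.node 631 (.node 630 (.leaf 0x20002020004) (.leaf 0x0)) (.node 632 (.leaf 0x0) (.node 633 (.leaf 0x301060206030503060009) (.leaf 0x50002000306020202060305000c)))) (.node 636 (.node 635 (.leaf 0x0) (.leaf 0x0)) (.node 637 (.leaf 0x0) (.node 638 (.leaf 0x70f0a0e0004) (.leaf 0x0))))))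

def argWS_59 : Store := (.node 619 argWS_57 argWS_58)

def argWS_60 : Store := (.node 599 argWS_56 argWS_59)

def argWS_61 : Store := (.node 559 argWS_53 argWS_60)

def argWS_62 : Store := (.node 479 argWS_46 argWS_61)

def argWS : Store := (.node 319 argWS_31 argWS_62)

def nodeSrcS : Store := (.leaf 0x20001000100000000)

noncomputable def nodeSrc : Nat → Nat := get16 nodeSrcS

def nodeWS : Store := (.node 2 (.node 1 (.leaf 0x0) (.leaf 0x0)) (.node 3 (.leaf 0x30001) (.node 4 (.leaf 0x301030003) (.leaf 0x30001))))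

def nodeTS : Store := (.leaf 0x10001000100010000)

noncomputable def nodeT : Nat → Nat := get16 nodeTS


end Cfsg.Agent.HSRecog.Cert5
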